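import Cfsg.Agent.S3390.Basic

/-!
Fixity two: the structure of a Sylow 2-subgroup.
-/

set_option autoImplicit false

namespace CfsgLib.FixTwo

open MulAction

variable {G : Type*} [Group G] [Finite G] {Ω : Type*} [Fintype Ω] [MulAction G Ω] [FaithfulSMul G Ω]

theorem klein_of_two_involutions {T : Type*} [Group T] (h4 : Nat.card T = 4) {x y : T}
    (hx : x ≠ 1) (hy : y ≠ 1) (hxy : x ≠ y) (hx2 : x * x = 1) (hy2 : y * y = 1) :
    Nonempty (T ≃* DihedralGroup 2) := by
  classical
  haveI : Finite T := Nat.finite_of_card_ne_zero (by omega)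
  haveI : Fintype T := Fintype.ofFinite T
  haveI : Fact (Nat.Prime 2) := ⟨Nat.prime_two⟩
  have hnc : ¬ IsCyclic T := fun h => by
    have h1 := @IsCyclic.card_pow_eq_one_le T _ _ _ h 2 two_pos
    have h2 : ({1, x, y} : Finset T) ⊆ Finset.univ.filter (fun a => a ^ 2 = 1) := by
      intro a ha
      simp only [Finset.mem_insert, Finset.mem_singleton] at ha
      rw [Finset.mem_filter, sq]
      rcases ha with rfl | rfl | rfl <;> simp [hx2, hy2]
    have h3 := Finset.card_le_card h2
    rw [Finset.card_eq_three.2 ⟨1, x, y, hx.symm, hy.symm, hxy, rfl⟩] at h3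
    omega
  haveI : IsKleinFour T :=
    ⟨h4, (not_isCyclic_iff_exponent_eq_prime Nat.prime_two (by rw [h4]; norm_num)).1 hnc⟩
  exact IsKleinFour.nonempty_mulEquiv

theorem structure_theorem (htr : MulAction.IsPretransitive G Ω)
    (hfix : ∀ g : G, g ≠ 1 → Nat.card (MulAction.fixedBy Ω g) ≤ 2) (α : Ω) (S : Sylow 2 G) :
    (S : Subgroup G) ⊓ MulAction.stabilizer G α = ⊥ ∨
    (((∃ n : ℕ, Nonempty (↥(S : Subgroup G) ≃* DihedralGroup n)) ∨ Cfsg.IsQuasiDihedral ↥(S : Subgroup G)) ∧
       (Nat.card ↥((S : Subgroup G) ⊓ MulAction.stabilizer G α) = 2 ∨ ((S : Subgroup G) ⊓ MulAction.stabilizer G α).relIndex (S : Subgroup G) = 2)) ∨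
    (4 ≤ Nat.card (S : Subgroup G) ∧
       (∃ ω : Ω, Nat.card (MulAction.orbit ↥(S : Subgroup G) ω) = 2 ∧
          ∀ ω' : Ω, ω' ∉ MulAction.orbit ↥(S : Subgroup G) ω → Nat.card (MulAction.orbit ↥(S : Subgroup G) ω') = Nat.card (S : Subgroup G)) ∧
       ∃ N : Subgroup G, N.Normal ∧ (N.index = 2 ∨ N.index = Nat.card (S : Subgroup G)) ∧ (∃ H : Subgroup ↥N, Cfsg.IsFrobeniusComplement H)) ∨
    (S : Subgroup G) ≤ MulAction.stabilizer G α := by
  classical
  haveI : Fact (Nat.Prime 2) := ⟨Nat.prime_two⟩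
  by_cases hbot : (S : Subgroup G) ⊓ stabilizer G α = ⊥
  · exact Or.inl hbot
  by_cases hle : (S : Subgroup G) ≤ stabilizer G α
  · exact Or.inr (Or.inr (Or.inr hle))
  let T : Type _ := ↥(S : Subgroup G)
  have hST : IsPGroup 2 T := S.2
  haveI hnil : Group.IsNilpotent T := hST.isNilpotent
  -- the stabiliser in `S`
  let U : Subgroup T := stabilizer T α
  have hUc : Nat.card U = Nat.card ↥((S : Subgroup G) ⊓ stabilizer G α) :=
    Nat.card_congr
      { toFun := fun x => ⟨x.1.1, x.1.2, x.2⟩
        invFun := fun x => ⟨⟨x.1, x.2.1⟩, x.2.2⟩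
        left_inv := fun _ => rfl
        right_inv := fun _ => rfl }
  have hUrel : ((S : Subgroup G) ⊓ stabilizer G α).relIndex (S : Subgroup G) = U.index := by
    show (((S : Subgroup G) ⊓ stabilizer G α).subgroupOf (S : Subgroup G)).index = U.index
    congr 1
    ext x
    exact ⟨fun h => h.2, fun h => ⟨x.2, h⟩⟩
  have hUtop : U ≠ ⊤ := fun h => hle fun x hx => (h ▸ Subgroup.mem_top (⟨x, hx⟩ : T) : (⟨x, hx⟩ : T) ∈ U)
  obtain ⟨u, hu, hu1⟩ : ∃ u : T, u ∈ U ∧ u ≠ 1 := by
    obtain ⟨w, hw, hw1⟩ := (Subgroup.ne_bot_iff_exists_ne_one.1 hbot : ∃ w, _) |> fun ⟨w, h⟩ => (⟨w.1, w.2, fun e => h (Subtype.ext e)⟩ : ∃ w : G, w ∈ (S : Subgroup G) ⊓ stabilizer G α ∧ w ≠ 1)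
    exact ⟨⟨w, hw.1⟩, hw.2, fun e => hw1 (congrArg Subtype.val e)⟩
  have hthree : ∀ (x : T) {a b c : Ω}, a ≠ b → a ≠ c → b ≠ c → x • a = a → x • b = b → x • c = c → x = 1 :=
    fun x a b c h1 h2 h3 h4 h5 h6 => Subtype.ext (eq_one_of_three hfix h1 h2 h3 h4 h5 h6)
  -- a second point
  have hnorm : U < Subgroup.normalizer (U : Set T) :=
    Group.normalizerCondition_of_isNilpotent U (lt_top_iff_ne_top.2 hUtop)
  obtain ⟨s, hsN, hsU⟩ := SetLike.exists_of_lt hnorm
  set β := s • α with hβ
  have hαβ : α ≠ β := fun e => hsU e.symm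
  have hUβ : ∀ x ∈ U, x • β = β := by
    intro x hx
    have h1 : s⁻¹ * x * s ∈ U := (Subgroup.mem_normalizer_iff''.1 hsN x).1 hx
    have h2 : (s⁻¹ * x * s) • α = α := h1
    rw [mul_smul, mul_smul, inv_smul_eq_iff] at h2
    exact h2
  have hUfix : ∀ x ∈ U, x ≠ 1 → ∀ γ : Ω, x • γ = γ → γ = α ∨ γ = β := by
    intro x hx hx1 γ hγ
    by_contra hne
    push Not at hne
    exact hx1 (hthree x hαβ hne.1.symm hne.2.symm hx (hUβ x hx) hγ)
  have hsβ : s • β = α := by
    have h1 : u • (s • β) = s • β := by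
      have h2 : s⁻¹ * u * s ∈ U := (Subgroup.mem_normalizer_iff''.1 hsN u).1 hu
      have h3 := hUβ _ h2
      rw [mul_smul, mul_smul, inv_smul_eq_iff] at h3
      exact h3
    rcases hUfix u hu hu1 _ h1 with h | h
    · exact h
    · exact absurd (smul_left_cancel s (h : s • β = s • α)).symm hαβ
  -- the setwise stabiliser of the two points
  have hswap : ∀ g : T, g • α = β → g • β = α := by
    intro g hg
    have h1 : s⁻¹ * g ∈ U := by
      show (s⁻¹ * g) • α = α
      rw [mul_smul, hg, inv_smul_eq_iff]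
    have h2 := hUβ _ h1
    rw [mul_smul, inv_smul_eq_iff, hsβ] at h2
    exact h2
  let W : Subgroup T :=
    { carrier := {g | g • α = α ∨ g • α = β}
      one_mem' := Or.inl (one_smul _ _)
      mul_mem' := fun {g h} hg hh => by
        rcases hh with hh | hh
        · show (g * h) • α = α ∨ (g * h) • α = β
          rw [mul_smul, hh]; exact hg
        · show (g * h) • α = α ∨ (g * h) • α = β
          rw [mul_smul, hh]
          rcases hg with hg | hg
          · exact Or.inr (hUβ g hg)
          · exact Or.inl (hswap g hg)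
      inv_mem' := fun {g} hg => by
        rcases hg with hg | hg
        · exact Or.inl (inv_smul_eq_iff.2 hg.symm)
        · exact Or.inr (inv_smul_eq_iff.2 (hswap g hg).symm) }
  have hUW : U ≤ W := fun g hg => Or.inl hg
  have hdiff : ∀ g h : T, g ∈ W → h ∈ W → g ∉ U → h ∉ U → g⁻¹ * h ∈ U := by
    intro g h hg hh hgU hhU
    show (g⁻¹ * h) • α = α
    rw [mul_smul, hh.resolve_left hhU, inv_smul_eq_iff, hg.resolve_left hgU]
  by_cases hW : W = ⊤
  · -- two orbits
    have hO : ∀ x : T, (x • α = α ∧ x • β = β) ∨ (x • α = β ∧ x • β = α) := by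
      intro x
      rcases (hW ▸ Subgroup.mem_top x : x ∈ W) with h | h
      · exact Or.inl ⟨h, hUβ x h⟩
      · exact Or.inr ⟨h, hswap x h⟩
    have hUidx : U.index = 2 := by
      rw [Subgroup.index_eq_two_iff']
      refine ⟨s, fun b => ?_⟩
      show Xor ((s * b) • α = α) (b • α = α)
      rcases hO b with h | h
      · exact Or.inr ⟨h.1, fun e => by rw [mul_smul, h.1] at e; exact hαβ e.symm⟩
      · exact Or.inl ⟨by rw [mul_smul, h.1, hsβ], fun e => hαβ (e.symm.trans h.1)⟩
    have hcard : Nat.card T = Nat.card U * 2 := (Subgroup.card_mul_index U).symm.trans (congrArg _ hUidx)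
    have hU2 : 2 ≤ Nat.card U := by
      have h1 : 1 < Nat.card U :=
        Finite.one_lt_card_iff_nontrivial.2 ⟨⟨u, hu⟩, 1, fun e => hu1 (congrArg Subtype.val e)⟩
      omega
    by_cases hsemi : ∀ x : T, x ≠ 1 → ∀ γ : Ω, x • γ = γ → γ = α ∨ γ = β
    · -- regular orbits
      refine Or.inr (Or.inr (Or.inl ⟨by show 4 ≤ Nat.card T; omega, ⟨α, ?_, ?_⟩, ?_⟩))
      · show Nat.card (orbit T α) = 2
        rw [Nat.card_coe_set_eq, ← MulAction.index_stabilizer]
        exact hUidx
      · intro ω' hω'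
        show Nat.card (orbit T ω') = Nat.card T
        have hst : stabilizer T ω' = ⊥ := by
          rw [Subgroup.eq_bot_iff_forall]
          intro x hx
          by_contra hx1
          rcases hsemi x hx1 ω' hx with h | h
          · exact hω' (by rw [h]; exact mem_orbit_self α)
          · exact hω' (by rw [h]; exact ⟨s, hβ.symm⟩)
        rw [Nat.card_coe_set_eq, ← MulAction.index_stabilizer, hst, Subgroup.index_bot]
      · have hsemi' : ∀ x ∈ (S : Subgroup G), x ≠ 1 → ∀ γ : Ω, x • γ = γ → γ = α ∨ γ = β :=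
          fun x hx hx1 γ hγ => hsemi ⟨x, hx⟩ (fun e => hx1 (congrArg Subtype.val e)) γ hγ
        have hu1' : (u : G) ≠ 1 := fun e => hu1 (Subtype.ext e)
        obtain ⟨M, hMn, hM, hMS⟩ := exists_index_two S hαβ u.2 hu1' hu s.2 hβ.symm
          (fun x hx => hO ⟨x, hx⟩) hsemi'
        haveI := hMn
        exact ⟨M, hMn, Or.inl hM,
          frobenius_of_index_two htr hfix S hαβ u.2 hu1' hu s.2 hβ.symm hsemi' M hM hMS⟩
    · -- a further fixed point
      push Not at hsemi
      obtain ⟨x, hx1, γ, hxγ, hγα, hγβ⟩ := hsemi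
      have hxU : x ∉ U := fun h => (hUfix x h hx1 γ hxγ).elim hγα hγβ
      have hstab : ∀ g h : T, g • γ = γ → h • γ = γ → ((g • α = α) ↔ (h • α = α)) → g = h := by
        intro g h hg hh hiff
        by_contra hne
        have h1 : g⁻¹ * h ∈ U := by
          by_cases hgU : g ∈ U
          · exact mul_mem (inv_mem hgU) (hiff.1 hgU)
          · exact hdiff g h (hW ▸ Subgroup.mem_top g) (hW ▸ Subgroup.mem_top h) hgU
              (fun e => hgU (hiff.2 e))
        have h2 : (g⁻¹ * h) • γ = γ := by rw [mul_smul, hh, inv_smul_eq_iff, hg]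
        refine (hUfix _ h1 (fun e => hne ?_) γ h2).elim hγα hγβ
        rwa [inv_mul_eq_one] at e
      have hx2 : x * x = 1 := by
        refine hstab _ _ (by rw [mul_smul, hxγ, hxγ]) (one_smul _ _) ?_
        rcases hO x with h | h
        · exact absurd h.1 hxU
        · rw [mul_smul, h.1, h.2, one_smul]
      have hxo : orderOf x = 2 := orderOf_eq_prime (by rw [sq]; exact hx2) hx1
      let C : Subgroup T := Subgroup.centralizer {x}
      have hxC : x ∈ C := Subgroup.mem_centralizer_singleton_iff.2 rfl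
      have hC4 : Nat.card C ≤ 4 := by
        rw [← Subgroup.card_mul_index (stabilizer C γ), MulAction.index_stabilizer]
        have h1 : (orbit C γ).ncard ≤ 2 := by
          refine le_trans (Set.ncard_le_ncard ?_ (Set.toFinite _))
            (le_trans (le_of_eq (Nat.card_coe_set_eq _).symm) (hfix (x : G) fun e => hx1 (Subtype.ext e)))
          rintro _ ⟨g, rfl⟩
          show x • ((g : T) • γ) = (g : T) • γ
          rw [← mul_smul, ← (Subgroup.mem_centralizer_singleton_iff.1 g.2), mul_smul, hxγ]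
        have h2 : Nat.card (stabilizer C γ) ≤ 2 := by
          refine le_trans (Nat.card_le_card_of_injective
            (fun g : stabilizer C γ => decide (((g : C) : T) • α = α)) ?_) (by simp)
          intro g h hgh
          refine Subtype.ext (Subtype.ext (hstab _ _ g.2 h.2 ?_))
          simpa using hgh
        exact Nat.mul_le_mul h2 h1
      have hCne2 : Nat.card C ≠ 2 := by
        intro h2
        have hCz : C = Subgroup.zpowers x := by
          refine (Subgroup.eq_of_le_of_card_ge (Subgroup.zpowers_le.2 hxC) ?_).symm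
          rw [h2, Nat.card_zpowers, hxo]
        haveI : Nontrivial T := ⟨⟨x, 1, hx1⟩⟩
        haveI := hST.center_nontrivial
        obtain ⟨z, hz⟩ := exists_ne (1 : Subgroup.center T)
        have hzC : (z : T) ∈ C :=
          Subgroup.mem_centralizer_singleton_iff.2 ((Subgroup.mem_center_iff.1 z.2 x).symm)
        have hzx : (z : T) = x := by
          rw [hCz, mem_zpowers_iff_mem_range_orderOf, hxo] at hzC
          simp only [Finset.mem_image, Finset.mem_range] at hzC
          obtain ⟨i, hi, hiz⟩ := hzC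
          interval_cases i
          · exact absurd (Subtype.ext (hiz.symm.trans (pow_zero x))) hz
          · rw [← hiz, pow_one]
        have hCtop : C = ⊤ := (Subgroup.eq_top_iff' C).2 fun g =>
          Subgroup.mem_centralizer_singleton_iff.2 (by
            have := Subgroup.mem_center_iff.1 z.2 g
            rwa [hzx] at this)
        rw [hCtop, Subgroup.card_top] at h2
        omega
      have hCcard : Nat.card C = 4 := by
        obtain ⟨k, hk⟩ := IsPGroup.iff_card.1 (hST.to_subgroup C)
        have : 1 < Nat.card C :=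
          Finite.one_lt_card_iff_nontrivial.2 ⟨⟨x, hxC⟩, 1, fun e => hx1 (congrArg Subtype.val e)⟩
        have hk2 : k ≤ 2 := (Nat.pow_le_pow_iff_right one_lt_two).1 (by rw [← hk]; exact hC4)
        interval_cases k <;> omega
      refine Or.inr (Or.inl ⟨?_, Or.inr (hUrel.trans hUidx)⟩)
      rcases CfsgLib.Inv53.dihedral_quasi_or_four hST x hxo hCcard with h | h | h
      · exact Or.inl h
      · exact Or.inr h
      · refine Or.inl ⟨2, klein_of_two_involutions h hu1 hx1 (fun e => hxU (e ▸ hu)) ?_ hx2⟩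
        have hU22 : Nat.card U = 2 := by
          have : Nat.card T = 4 := h
          omega
        have := pow_card_eq_one' (x := (⟨u, hu⟩ : U))
        rw [hU22, sq] at this
        exact congrArg Subtype.val this
  · -- the setwise stabiliser is proper
    have hWnorm : W < Subgroup.normalizer (W : Set T) :=
      Group.normalizerCondition_of_isNilpotent W (lt_top_iff_ne_top.2 hW)
    obtain ⟨v, hvN, hvW⟩ := SetLike.exists_of_lt hWnorm
    have hvα : v • α ≠ α ∧ v • α ≠ β := ⟨fun e => hvW (Or.inl e), fun e => hvW (Or.inr e)⟩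
    have hkey : ∀ y ∈ U, v * y * v⁻¹ ∈ U → y = 1 := by
      intro y hy hy'
      by_contra hy1
      have h1 : (v * y * v⁻¹) • (v • α) = v • α := by
        rw [← mul_smul, inv_mul_cancel_right, mul_smul, show y • α = α from hy]
      exact (hUfix _ hy' (fun e => hy1 (conj_eq_one_iff.1 e)) _ h1).elim hvα.1 hvα.2
    have hconjW : ∀ y ∈ U, v * y * v⁻¹ ∈ W := fun y hy =>
      (Subgroup.mem_normalizer_iff.1 hvN y).1 (hUW hy)
    have huniq : ∀ y ∈ U, y ≠ 1 → y = u := by
      intro y hy hy1
      have h1 := hdiff _ _ (hconjW u hu) (hconjW y hy) (fun e => hu1 (hkey u hu e))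
        (fun e => hy1 (hkey y hy e))
      have h2 : v * (u⁻¹ * y) * v⁻¹ ∈ U := by
        rwa [show v * (u⁻¹ * y) * v⁻¹ = (v * u * v⁻¹)⁻¹ * (v * y * v⁻¹) by
          rw [conj_inv, conj_mul]]
      exact (inv_mul_eq_one.1 (hkey _ (mul_mem (inv_mem hu) hy) h2)).symm
    have hUc2 : Nat.card U = 2 := by
      rw [Nat.card_eq_two_iff' (⟨1, one_mem U⟩ : U)]
      exact ⟨⟨u, hu⟩, fun e => hu1 (congrArg Subtype.val e),
        fun y hy => Subtype.ext (huniq y.1 y.2 fun e => hy (Subtype.ext e))⟩
    have hu2 : orderOf u = 2 := by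
      refine orderOf_eq_prime ?_ hu1
      have := pow_card_eq_one' (x := (⟨u, hu⟩ : U))
      rw [hUc2] at this
      exact congrArg Subtype.val this
    have hCW : Subgroup.centralizer ({u} : Set T) = W := by
      ext g
      rw [Subgroup.mem_centralizer_singleton_iff]
      constructor
      · intro hg
        have h1 : u • (g • α) = g • α := by
          rw [← mul_smul, ← hg, mul_smul, show u • α = α from hu]
        exact hUfix u hu hu1 _ h1
      · intro hg
        have h1 : g * u * g⁻¹ ∈ U := by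
          show (g * u * g⁻¹) • α = α
          rcases (inv_mem hg : g⁻¹ ∈ W) with h | h
          · rw [mul_smul, mul_smul, h, show u • α = α from hu]
            exact (inv_smul_eq_iff.1 h).symm
          · rw [mul_smul, mul_smul, h, hUβ u hu, ← h, smul_inv_smul]
        have h2 := huniq _ h1 fun e => hu1 (conj_eq_one_iff.1 e)
        exact mul_inv_eq_iff_eq_mul.1 h2
    have hWc : Nat.card W = 4 := by
      have hidx : (U.subgroupOf W).index = 2 := by
        rw [Subgroup.index_eq_two_iff']
        refine ⟨⟨s, Or.inr hβ.symm⟩, fun b => ?_⟩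
        show Xor ((s * (b : T)) • α = α) ((b : T) • α = α)
        rcases b.2 with h | h
        · exact Or.inr ⟨h, fun e => by rw [mul_smul, h] at e; exact hαβ e.symm⟩
        · exact Or.inl ⟨by rw [mul_smul, h, hsβ], fun e => hαβ (e.symm.trans h)⟩
      rw [← Subgroup.card_mul_index (U.subgroupOf W), hidx,
        Nat.card_congr (Subgroup.subgroupOfEquivOfLe hUW).toEquiv, hUc2]
    refine Or.inr (Or.inl ⟨?_, Or.inl (hUc ▸ hUc2)⟩)
    rcases CfsgLib.Inv53.dihedral_quasi_or_four hST u hu2 (hCW ▸ hWc) with h | h | h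
    · exact Or.inl h
    · exact Or.inr h
    · exact absurd (Subgroup.eq_top_of_card_eq W (hWc.trans h.symm)) hW

end CfsgLib.FixTwo
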