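import Mathlib
import Cfsg.Prelude.Def_Solvable
import Cfsg.Prelude.Def_CaseTheorems
import Cfsg.Agent.Inv53.SmallCentralizer

/-!
Fixity two: the parity homomorphism and the Frobenius subgroup.
-/

set_option autoImplicit false

namespace CfsgLib.FixTwo

open Equiv Equiv.Perm

theorem sign_eq_one_of_uniform {α : Type*} [Fintype α] [DecidableEq α] (σ : Perm α) {a b : α}
    (hab : a ≠ b) (ha : σ a = a) (hb : σ b = b) {o : ℕ}
    (hper : ∀ c, c ≠ a → c ≠ b → ∀ k : ℕ, (σ ^ k) c = c ↔ o ∣ k)
    (hdvd : 2 * o ∣ Fintype.card α - 2) : sign σ = 1 := by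
  by_cases hσ : σ = 1
  · rw [hσ, map_one]
  obtain ⟨c₀, hc₀⟩ : ∃ c, σ c ≠ c := by
    by_contra h
    push Not at h
    exact hσ (Equiv.ext h)
  have ho1 : o ≠ 1 := fun h => hc₀ (by
    have := (hper c₀ (fun e => hc₀ (e ▸ ha)) (fun e => hc₀ (e ▸ hb)) 1).2 (h ▸ dvd_rfl)
    simpa using this)
  have hsupp : σ.support = {a, b}ᶜ := by
    ext c
    rw [mem_support, Finset.mem_compl, Finset.mem_insert, Finset.mem_singleton]
    constructor
    · rintro h (rfl | rfl)
      · exact h ha
      · exact h hb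
    · intro h hc
      push Not at h
      exact ho1 (Nat.dvd_one.1 ((hper c h.1 h.2 1).1 (by simpa using hc)))
  have hall : ∀ l ∈ σ.cycleType, l = o := by
    intro l hl
    rw [cycleType_def, Multiset.mem_map] at hl
    obtain ⟨f, hf, rfl⟩ := hl
    obtain ⟨hfc, hfa⟩ := mem_cycleFactorsFinset_iff.1 hf
    obtain ⟨c, hc⟩ : f.support.Nonempty := Finset.card_pos.1 (by have := hfc.two_le_card_support; omega)
    have hpow : ∀ k : ℕ, (f ^ k) c = (σ ^ k) c := by
      intro k
      induction k with
      | zero => rfl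
      | succ k ih =>
        rw [pow_succ', pow_succ', Perm.mul_apply, Perm.mul_apply, ← ih]
        exact hfa _ (pow_apply_mem_support.2 hc)
    have hcab : c ≠ a ∧ c ≠ b := by
      have hcs : σ c ≠ c := by rw [← hfa c hc]; exact mem_support.1 hc
      exact ⟨fun e => hcs (e ▸ ha), fun e => hcs (e ▸ hb)⟩
    show f.support.card = o
    rw [← hfc.orderOf]
    refine Nat.dvd_antisymm ?_ ((hper c hcab.1 hcab.2 _).1 (by
      rw [← hpow, pow_orderOf_eq_one]; rfl))
    rw [orderOf_dvd_iff_pow_eq_one, hfc.pow_eq_one_iff' (mem_support.1 hc), hpow]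
    exact (hper c hcab.1 hcab.2 o).2 dvd_rfl
  have hrep : σ.cycleType = Multiset.replicate (Multiset.card σ.cycleType) o :=
    Multiset.eq_replicate.2 ⟨rfl, hall⟩
  have hsum : σ.cycleType.sum = Fintype.card α - 2 := by
    rw [sum_cycleType, hsupp, Finset.card_compl, Finset.card_pair hab]
  have hcount : Multiset.card σ.cycleType * o = Fintype.card α - 2 := by
    rw [← hsum]
    conv_rhs => rw [hrep]
    rw [Multiset.sum_replicate, smul_eq_mul]
  obtain ⟨m, hm⟩ := hdvd
  rw [sign_of_cycleType, hsum]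
  have ho0 : o ≠ 0 := by
    rintro rfl
    rw [mul_zero] at hcount
    have h2 := hsupp ▸ σ.sum_cycleType
    rw [hsum, ← hcount, Finset.card_compl, Finset.card_pair hab] at h2
    have : c₀ ∈ σ.support := mem_support.2 hc₀
    rw [hsupp] at this
    have := Finset.card_pos.2 ⟨c₀, this⟩
    rw [Finset.card_compl, Finset.card_pair hab] at this
    omega
  have hcard : Multiset.card σ.cycleType = 2 * m :=
    Nat.eq_of_mul_eq_mul_right (Nat.pos_of_ne_zero ho0) (by rw [hcount, hm]; ring)
  rw [hcard, hm]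
  exact Even.neg_one_pow ⟨o * m + m, by ring⟩

variable {G : Type*} [Group G] [Finite G] {Ω : Type*} [Fintype Ω] [MulAction G Ω] [FaithfulSMul G Ω]

theorem eq_one_of_three (hfix : ∀ g : G, g ≠ 1 → Nat.card (MulAction.fixedBy Ω g) ≤ 2) {g : G}
    {a b c : Ω} (hab : a ≠ b) (hac : a ≠ c) (hbc : b ≠ c) (ha : g • a = a) (hb : g • b = b)
    (hc : g • c = c) : g = 1 := by
  by_contra hg
  have h1 := hfix g hg
  rw [Nat.card_coe_set_eq] at h1
  have hsub : ({a, b, c} : Set Ω) ⊆ MulAction.fixedBy Ω g := by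
    rintro d (rfl | rfl | rfl) <;> assumption
  have h2 := Set.ncard_le_ncard hsub (Set.toFinite _)
  rw [Set.ncard_eq_three.2 ⟨a, b, c, hab, hac, hbc, rfl⟩] at h2
  omega

/-- The Frobenius subgroup. -/
theorem frobenius_of_index_two (htr : MulAction.IsPretransitive G Ω)
    (hfix : ∀ g : G, g ≠ 1 → Nat.card (MulAction.fixedBy Ω g) ≤ 2) {α β : Ω} (S : Sylow 2 G)
    (hαβ : α ≠ β) {u s : G} (huS : u ∈ (S : Subgroup G)) (hu : u ≠ 1) (huα : u • α = α)
    (hs : s ∈ (S : Subgroup G)) (hsα : s • α = β)
    (hsemi : ∀ x ∈ (S : Subgroup G), x ≠ 1 → ∀ γ : Ω, x • γ = γ → γ = α ∨ γ = β)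
    (M : Subgroup G) [M.Normal] (hM : M.index = 2)
    (hMS : ∀ x ∈ (S : Subgroup G), (x ∈ M ↔ x • α = α)) :
    ∃ H : Subgroup M, Cfsg.IsFrobeniusComplement H := by
  haveI := htr
  haveI : Fact (Nat.Prime 2) := ⟨Nat.prime_two⟩
  have hsM : s ∉ M := fun h => hαβ ((((hMS s hs).1 h).symm).trans hsα)
  -- stabilisers lie in `M`
  have hstab : ∀ (g : G) (γ : Ω), g • γ = γ → g ∈ M := by
    intro g γ hg
    by_contra hgM
    obtain ⟨k, o, ho, hgo⟩ := Nat.exists_eq_two_pow_mul_odd (orderOf_pos g).ne'
    set y := g ^ o with hy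
    have hyM : y ∉ M := by
      intro h
      apply hgM
      obtain ⟨j, rfl⟩ := ho
      have h2 : g ^ 2 ∈ M := by rw [← hM]; exact M.pow_index_mem g
      have h3 : g ^ (2 * j) ∈ M := by rw [pow_mul]; exact pow_mem h2 j
      rw [hy, pow_succ] at h
      exact (Subgroup.mul_mem_cancel_left _ h3).1 h
    have hy2 : IsPGroup 2 (Subgroup.zpowers y) := by
      refine IsPGroup.of_card (n := k) ?_
      rw [Nat.card_zpowers, hy, orderOf_pow, hgo, Nat.gcd_eq_right (dvd_mul_left o _),
        Nat.mul_div_cancel _ ho.pos]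
    obtain ⟨P, hP⟩ := hy2.exists_le_sylow
    obtain ⟨c, hc⟩ := MulAction.exists_smul_eq G P S
    set z := c * y * c⁻¹ with hz
    have hzS : z ∈ (S : Subgroup G) := by
      rw [← hc]
      exact Subgroup.smul_mem_pointwise_smul y (MulAut.conj c) _ (hP (Subgroup.mem_zpowers y))
    have hzM : z ∉ M := fun h => hyM (by
      have := Subgroup.Normal.conj_mem ‹M.Normal› z h c⁻¹
      rw [hz] at this
      group at this
      exact this)
    have hz1 : z ≠ 1 := fun h => hzM (h ▸ one_mem _)
    have hzfix : z • (c • γ) = c • γ := by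
      have hyγ : y • γ = γ :=
        MulAction.mem_stabilizer_iff.1 (pow_mem (MulAction.mem_stabilizer_iff.2 hg) o)
      rw [hz, ← mul_smul, inv_mul_cancel_right, mul_smul, hyγ]
    rcases hsemi z hzS hz1 _ hzfix with e | e
    · rw [e] at hzfix; exact hzM ((hMS z hzS).2 hzfix)
    · rw [e, ← hsα] at hzfix
      refine hzM ?_
      have h2 : s⁻¹ * z * s ∈ M := by
        refine (hMS _ (mul_mem (mul_mem (inv_mem hs) hzS) hs)).2 ?_
        rw [mul_smul, mul_smul, hzfix, inv_smul_smul]
      have := Subgroup.Normal.conj_mem ‹M.Normal› _ h2 s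
      group at this
      exact this
  -- the two orbits
  have hβ : ∀ m ∈ M, m • α ≠ β := by
    intro m hm h
    apply hsM
    have h1 : m⁻¹ * s ∈ M := hstab _ α (by rw [mul_smul, hsα, ← h, inv_smul_smul])
    have := mul_mem hm h1
    rwa [mul_inv_cancel_left] at this
  let H : Subgroup M := MulAction.stabilizer M α
  have huM : u ∈ M := (hMS u huS).2 huα
  refine ⟨H, ?_, ?_, ?_⟩
  · intro h
    have h1 : (⟨u, huM⟩ : M) ∈ H := huα
    rw [h, Subgroup.mem_bot] at h1
    exact hu (congrArg Subtype.val h1)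
  · intro h
    have hfixα : ∀ m ∈ M, m • α = α := fun m hm =>
      (h ▸ Subgroup.mem_top (⟨m, hm⟩ : M) : (⟨m, hm⟩ : M) ∈ H)
    have hMβ : ∀ m ∈ M, m • β = β := by
      intro m hm
      have hm' : s⁻¹ * m * s ∈ M := by
        have := Subgroup.Normal.conj_mem ‹M.Normal› m hm s⁻¹
        rwa [inv_inv] at this
      have h2 := hfixα _ hm'
      rw [mul_smul, mul_smul, hsα] at h2
      rw [inv_smul_eq_iff, hsα] at h2
      exact h2
    -- then there are only two points
    have htwo : ∀ γ : Ω, γ = α ∨ γ = β := by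
      intro γ
      by_contra hne
      push Not at hne
      obtain ⟨g, hg⟩ := MulAction.exists_smul_eq G α γ
      have hgM : g ∈ M ∨ g * s ∈ M := by
        by_cases hgM : g ∈ M
        · exact Or.inl hgM
        · exact Or.inr ((Subgroup.mul_mem_iff_of_index_two hM).2 (iff_of_false hgM hsM))
      rcases hgM with h1 | h1
      · exact hne.1 (hg.symm.trans (hfixα g h1))
      · have hs2 : s • β = α := by
          have h2 : s * s ∈ M := (Subgroup.mul_mem_iff_of_index_two hM).2 Iff.rfl
          have := hfixα _ h2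
          rwa [mul_smul, hsα] at this
        have h2 := hMβ _ h1
        rw [mul_smul, hs2, hg] at h2
        exact hne.2 h2
    refine hu (eq_of_smul_eq_smul fun γ : Ω => ?_)
    rcases htwo γ with rfl | rfl
    · rw [huα, one_smul]
    · rw [hMβ u huM, one_smul]
  · intro g hg
    rw [Subgroup.eq_bot_iff_forall]
    rintro x ⟨hx, hx'⟩
    by_contra hx1
    set δ := g • α with hδ
    have hδα : δ ≠ α := hg
    have hxδ : x • δ = δ := by
      obtain ⟨y, hy, rfl⟩ := hx'
      show (g * y * g⁻¹) • g • α = g • α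
      rw [← mul_smul, inv_mul_cancel_right, mul_smul, show y • α = α from hy]
    -- an element of prime order fixing the same two points
    obtain ⟨p, hp, hpd⟩ := Nat.exists_prime_and_dvd
      (show orderOf (x : G) ≠ 1 from fun h => hx1 (Subtype.ext (orderOf_eq_one_iff.1 h)))
    haveI := Fact.mk hp
    set w : M := x ^ (orderOf (x : G) / p) with hw
    have hwo : orderOf (w : G) = p := by
      rw [hw, SubmonoidClass.coe_pow, orderOf_pow, Nat.gcd_eq_right (Nat.div_dvd_of_dvd hpd),
        Nat.div_div_self hpd (orderOf_pos _).ne']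
    have hw1 : (w : G) ≠ 1 := fun h => hp.ne_one (by rw [← hwo, h, orderOf_one])
    have hwα : w • α = α := MulAction.mem_stabilizer_iff.1 (pow_mem hx _)
    have hwδ : w • δ = δ :=
      MulAction.mem_stabilizer_iff.1 (pow_mem (MulAction.mem_stabilizer_iff.2 hxδ) _)
    by_cases hp2 : p = 2
    · subst hp2
      obtain ⟨P, hP⟩ := (IsPGroup.of_card (p := 2) (n := 1)
        (by rw [Nat.card_zpowers, hwo, pow_one]) : IsPGroup 2 (Subgroup.zpowers (w : G))).exists_le_sylow
      obtain ⟨c, hc⟩ := MulAction.exists_smul_eq G P S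
      set z := c * (w : G) * c⁻¹ with hz
      have hzS : z ∈ (S : Subgroup G) := by
        rw [← hc]
        exact Subgroup.smul_mem_pointwise_smul (w : G) (MulAut.conj c) _ (hP (Subgroup.mem_zpowers _))
      have hz1 : z ≠ 1 := fun h => hw1 (conj_eq_one_iff.1 h)
      have hfixz : ∀ γ : Ω, (w : G) • γ = γ → z • (c • γ) = c • γ := fun γ hγ => by
        rw [hz, ← mul_smul, inv_mul_cancel_right, mul_smul, hγ]
      have e1 := hsemi z hzS hz1 _ (hfixz α hwα)
      have e2 := hsemi z hzS hz1 _ (hfixz δ hwδ)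
      have hk : c * (g : G) * c⁻¹ ∈ M := Subgroup.Normal.conj_mem ‹M.Normal› _ g.2 c
      have hk2 : (c * (g : G) * c⁻¹) • (c • α) = c • δ := by
        rw [← mul_smul, inv_mul_cancel_right, mul_smul]; rfl
      rcases e1 with e1 | e1 <;> rcases e2 with e2 | e2
      · exact hδα (smul_left_cancel c (e2.trans e1.symm))
      · rw [e1, e2] at hk2; exact hβ _ hk hk2
      · rw [e1, e2, ← eq_inv_smul_iff] at hk2
        exact hβ _ (inv_mem hk) hk2.symm
      · exact hδα (smul_left_cancel c (e2.trans e1.symm))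
    -- odd prime
    let X : Subgroup M := Subgroup.zpowers w
    have hX : IsPGroup p X := IsPGroup.of_card (n := 1) (by
      rw [Nat.card_zpowers, ← Subgroup.orderOf_coe, hwo, pow_one])
    let A := MulAction.orbit M α
    let B := MulAction.orbit M β
    have hAB : Nat.card A = Nat.card B := by
      refine Nat.card_congr ((MulAction.toPerm s).subtypeEquiv fun γ => ?_)
      show γ ∈ MulAction.orbit M α ↔ s • γ ∈ MulAction.orbit M β
      constructor
      · rintro ⟨m, rfl⟩
        refine ⟨⟨s * m * s⁻¹, Subgroup.Normal.conj_mem ‹M.Normal› _ m.2 s⟩, ?_⟩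
        show (s * m * s⁻¹) • β = s • ((m : G) • α)
        rw [← hsα, ← mul_smul, inv_mul_cancel_right, mul_smul]
      · rintro ⟨m, hm⟩
        have hm' : s⁻¹ * (m : G) * s ∈ M := by
          have := Subgroup.Normal.conj_mem ‹M.Normal› _ m.2 s⁻¹
          rwa [inv_inv] at this
        refine ⟨⟨_, hm'⟩, ?_⟩
        show (s⁻¹ * (m : G) * s) • α = γ
        rw [mul_smul, mul_smul, hsα, show (m : G) • β = s • γ from hm, inv_smul_smul]
    have hfixA : ∀ γ : Ω, w • γ = γ → γ = α ∨ γ = δ := by
      intro γ hγ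
      by_contra hne
      push Not at hne
      exact hw1 (eq_one_of_three hfix (Ne.symm hδα) hne.1.symm hne.2.symm hwα hwδ hγ)
    have hfp : ∀ (γ₀ : Ω) (z : MulAction.orbit M γ₀),
        z ∈ MulAction.fixedPoints X (MulAction.orbit M γ₀) ↔ w • (z : Ω) = z := by
      intro γ₀ z
      constructor
      · intro h
        exact congrArg Subtype.val (h ⟨w, Subgroup.mem_zpowers w⟩)
      · rintro h ⟨v, hv⟩
        refine Subtype.ext ?_
        exact MulAction.mem_stabilizer_iff.1
          ((Subgroup.zpowers_le.2 (MulAction.mem_stabilizer_iff.2 h)) hv)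
    have hδA : δ ∈ A := ⟨g, rfl⟩
    have h1 := hX.card_modEq_card_fixedPoints A
    have h2 := hX.card_modEq_card_fixedPoints B
    have hFA : Nat.card (MulAction.fixedPoints X A) = 2 := by
      have hset : MulAction.fixedPoints X A =
          {(⟨α, MulAction.mem_orbit_self α⟩ : A), ⟨δ, hδA⟩} := by
        ext z
        rw [hfp]
        constructor
        · intro h
          rcases hfixA _ h with e | e
          · exact Or.inl (Subtype.ext e)
          · exact Or.inr (Subtype.ext e)
        · rintro (rfl | rfl)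
          · exact hwα
          · exact hwδ
      rw [hset, Nat.card_coe_set_eq, Set.ncard_pair]
      exact fun e => hδα (congrArg Subtype.val e).symm
    have hFB : Nat.card (MulAction.fixedPoints X B) = 0 := by
      rw [Nat.card_eq_zero]
      refine Or.inl ⟨fun z => ?_⟩
      obtain ⟨m, hm⟩ := z.1.2
      have hz : w • (z.1 : Ω) = z.1 := (hfp β z.1).1 z.2
      rcases hfixA _ hz with e | e
      · exact hβ _ (m⁻¹).2 (inv_smul_eq_iff.2 (hm.trans e).symm)
      · refine hβ _ (mul_mem (m⁻¹).2 g.2) ?_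
        rw [mul_smul]
        exact inv_smul_eq_iff.2 (hm.trans e).symm
    rw [hFA] at h1
    rw [hFB, ← hAB] at h2
    have h3 : 2 ≡ 0 [MOD p] := h1.symm.trans h2
    rw [Nat.modEq_zero_iff_dvd] at h3
    exact hp2 ((Nat.prime_dvd_prime_iff_eq hp Nat.prime_two).1 h3)

theorem index_two_of_hom {A : Type*} [Group A] (hA : Nat.card A = 2) (χ : G →* A)
    (hsurj : ∃ g, χ g ≠ 1) : χ.ker.index = 2 := by
  haveI : Finite A := Nat.finite_of_card_ne_zero (by omega)
  rw [Subgroup.index_ker]
  have h1 := Subgroup.card_subgroup_dvd_card χ.range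
  rw [hA] at h1
  rcases Nat.prime_two.eq_one_or_self_of_dvd _ h1 with h | h
  · obtain ⟨g, hg⟩ := hsurj
    exact absurd (Subgroup.mem_bot.1 ((Subgroup.eq_bot_of_card_eq _ h) ▸ ⟨g, rfl⟩ :
      χ g ∈ (⊥ : Subgroup A))) hg
  · exact h

/-- An index two normal subgroup meeting `S` in the stabiliser. -/
theorem exists_index_two {α β : Ω} (S : Sylow 2 G) (hαβ : α ≠ β)
    {u s : G} (huS : u ∈ (S : Subgroup G)) (hu : u ≠ 1) (huα : u • α = α)
    (hs : s ∈ (S : Subgroup G)) (hsα : s • α = β)
    (hO : ∀ x ∈ (S : Subgroup G), (x • α = α ∧ x • β = β) ∨ (x • α = β ∧ x • β = α))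
    (hsemi : ∀ x ∈ (S : Subgroup G), x ≠ 1 → ∀ γ : Ω, x • γ = γ → γ = α ∨ γ = β) :
    ∃ M : Subgroup G, M.Normal ∧ M.index = 2 ∧ ∀ x ∈ (S : Subgroup G), (x ∈ M ↔ x • α = α) := by
  classical
  haveI : Fact (Nat.Prime 2) := ⟨Nat.prime_two⟩
  by_cases hcyc : IsCyclic (S : Subgroup G)
  · rcases subsingleton_or_nontrivial G with hG | hG
    · exact absurd (Subsingleton.elim u 1) hu
    have hmin : (Nat.card G).minFac = 2 := by
      rw [Nat.minFac_eq_two_iff]
      obtain ⟨k, hk⟩ := S.2.exists_card_eq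
      rcases k with _ | k
      · rw [pow_zero] at hk
        haveI := (Nat.card_eq_one_iff_unique.1 hk).1
        exact absurd (congrArg Subtype.val (Subsingleton.elim (⟨u, huS⟩ : (S : Subgroup G)) 1)) hu
      · exact (dvd_pow_self 2 k.succ_ne_zero).trans (hk ▸ Subgroup.card_subgroup_dvd_card _)
    have hN := IsCyclic.normalizer_le_centralizer (P := S) hmin hcyc
    let τ := MonoidHom.transferSylow S hN
    let U : Subgroup (S : Subgroup G) := MulAction.stabilizer (S : Subgroup G) α
    have hUidx : U.index = 2 := by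
      rw [Subgroup.index_eq_two_iff']
      refine ⟨⟨s, hs⟩, fun b => ?_⟩
      show Xor ((s * (b : G)) • α = α) ((b : G) • α = α)
      have hsβ : s • β = α := by
        rcases hO s hs with h | h
        · exact absurd (h.1.symm.trans hsα) hαβ
        · exact h.2
      rcases hO b b.2 with h | h
      · exact Or.inr ⟨h.1, fun e => by rw [mul_smul, h.1, hsα] at e; exact hαβ e.symm⟩
      · exact Or.inl ⟨by rw [mul_smul, h.1, hsβ], fun e => hαβ (e.symm.trans h.1)⟩
    haveI : U.Normal := Subgroup.normal_of_index_eq_two hUidx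
    let χ : G →* (S : Subgroup G) ⧸ U := (QuotientGroup.mk' U).comp τ
    have hχ : ∀ x ∈ (S : Subgroup G), (x ∈ χ.ker ↔ x • α = α) := by
      intro x hx
      have hτ : τ x = (⟨x, hx⟩ : (S : Subgroup G)) ^ (S : Subgroup G).index :=
        congrFun (MonoidHom.transferSylow_domRestrict_eq_pow S hN) ⟨x, hx⟩
      rw [MonoidHom.mem_ker]
      show ((τ x : (S : Subgroup G) ⧸ U) = 1) ↔ _
      rw [QuotientGroup.eq_one_iff, hτ]
      have hodd : Odd (S : Subgroup G).index := by
        rw [← Nat.not_even_iff_odd, even_iff_two_dvd]; exact S.not_dvd_index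
      obtain ⟨j, hj⟩ := hodd
      rw [hj, pow_succ, pow_mul]
      have h2 : ((⟨x, hx⟩ : (S : Subgroup G)) ^ 2) ^ j ∈ U :=
        pow_mem (by have := U.pow_index_mem (⟨x, hx⟩ : (S : Subgroup G)); rwa [hUidx] at this) j
      rw [Subgroup.mul_mem_cancel_left _ h2]
      exact Iff.rfl
    exact ⟨χ.ker, inferInstance, index_two_of_hom (hUidx) χ
      ⟨s, fun h => hαβ (((hχ s hs).1 h).symm.trans hsα)⟩, hχ⟩
  · let χ : G →* ℤˣ := Equiv.Perm.sign.comp (MulAction.toPermHom G Ω)
    obtain ⟨N, hN⟩ := S.2.exists_card_eq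
    -- the points off `{α, β}` split into regular orbits
    have hdvd : Nat.card (S : Subgroup G) ∣ Fintype.card Ω - 2 := by
      let R : SubMulAction (S : Subgroup G) Ω :=
        { carrier := {γ | γ ≠ α ∧ γ ≠ β}
          smul_mem' := fun x γ hγ => by
            rcases hO x x.2 with h | h
            · exact ⟨fun e => hγ.1 (smul_left_cancel (x : G) (e.trans h.1.symm)),
                fun e => hγ.2 (smul_left_cancel (x : G) (e.trans h.2.symm))⟩
            · exact ⟨fun e => hγ.2 (smul_left_cancel (x : G) (e.trans h.2.symm)),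
                fun e => hγ.1 (smul_left_cancel (x : G) (e.trans h.1.symm))⟩ }
      have hcR : Nat.card R = Fintype.card Ω - 2 := by
        rw [show Nat.card R = Nat.card {γ : Ω // γ ≠ α ∧ γ ≠ β} from rfl, Nat.card_eq_fintype_card,
          Fintype.card_subtype, ← Finset.card_pair hαβ, ← Finset.card_compl]
        congr 1
        ext; simp
      rw [← hcR]
      have hfree : ∀ γ : R, MulAction.stabilizer (S : Subgroup G) γ = ⊥ := fun γ => by
        rw [Subgroup.eq_bot_iff_forall]
        intro x hx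
        by_contra hx1
        have h := hsemi x x.2 (fun e => hx1 (Subtype.ext e)) γ.1
          ((SubMulAction.val_smul x γ).symm.trans (congrArg Subtype.val (MulAction.mem_stabilizer_iff.1 hx)))
        exact h.elim γ.2.1 γ.2.2
      refine ⟨Nat.card (Quotient (MulAction.orbitRel (S : Subgroup G) R)), ?_⟩
      rw [Nat.card_congr (MulAction.selfEquivOrbitsQuotientProd hfree), Nat.card_prod]
      exact mul_comm _ _
    have hval : ∀ x ∈ (S : Subgroup G), (x • α = α → χ x = 1) ∧ (x • α = β → χ x = -1) := by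
      intro x hx
      set o := orderOf x with ho
      have hox : o ∣ Nat.card (S : Subgroup G) := Subgroup.orderOf_dvd_natCard _ hx
      have ho2 : 2 * o ∣ Fintype.card Ω - 2 := by
        refine dvd_trans ?_ hdvd
        obtain ⟨k, hk, hk'⟩ := (Nat.dvd_prime_pow Nat.prime_two).1 (hN ▸ hox)
        rw [hN, hk', ← pow_succ']
        refine pow_dvd_pow 2 ?_
        by_contra hle
        refine hcyc (isCyclic_of_orderOf_eq_card (⟨x, hx⟩ : (S : Subgroup G)) ?_)
        rw [Subgroup.orderOf_mk, ← ho, hk', hN, show k = N by omega]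
      have hpow : ∀ k : ℕ, ∀ γ : Ω, γ ≠ α → γ ≠ β → (x ^ k • γ = γ ↔ o ∣ k) := by
        intro k γ h1 h2
        rw [ho, orderOf_dvd_iff_pow_eq_one]
        refine ⟨fun h => by_contra fun hne => ?_, fun h => by rw [h, one_smul]⟩
        exact (hsemi _ (pow_mem hx k) hne γ h).elim h1 h2
      rcases hO x hx with h | h
      · refine ⟨fun _ => ?_, fun e => absurd (h.1.symm.trans e) hαβ⟩
        show sign (MulAction.toPermHom G Ω x) = 1
        refine sign_eq_one_of_uniform _ hαβ h.1 h.2 (o := o) (fun γ h1 h2 k => ?_) ho2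
        rw [← map_pow]
        exact hpow k γ h1 h2
      · refine ⟨fun e => absurd (e.symm.trans h.1) hαβ, fun _ => ?_⟩
        show sign (MulAction.toPermHom G Ω x) = -1
        set σ := swap α β * MulAction.toPermHom G Ω x with hσ
        have hσ1 : sign σ = 1 := by
          refine sign_eq_one_of_uniform σ hαβ ?_ ?_ (o := o) (fun γ h1 h2 k => ?_) ho2
          · show swap α β (x • α) = α; rw [h.1, swap_apply_right]
          · show swap α β (x • β) = β; rw [h.2, swap_apply_left]
          · have hk : ∀ k : ℕ, (σ ^ k) γ = x ^ k • γ ∧ x ^ k • γ ≠ α ∧ x ^ k • γ ≠ β := by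
              intro k
              induction k with
              | zero => simp [h1, h2]
              | succ k ih =>
                obtain ⟨i1, i2, i3⟩ := ih
                have n1 : x • x ^ k • γ ≠ α := fun e =>
                  i3 (smul_left_cancel x (e.trans h.2.symm))
                have n2 : x • x ^ k • γ ≠ β := fun e =>
                  i2 (smul_left_cancel x (e.trans h.1.symm))
                rw [pow_succ' σ, pow_succ' x, mul_smul, Perm.mul_apply, i1]
                exact ⟨swap_apply_of_ne_of_ne n1 n2, n1, n2⟩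
            rw [(hk k).1]
            exact hpow k γ h1 h2
        rw [show MulAction.toPermHom G Ω x = swap α β * σ by
          rw [hσ, swap_mul_self_mul], map_mul, hσ1, sign_swap hαβ, mul_one]
    refine ⟨χ.ker, inferInstance, index_two_of_hom ?_ χ ⟨s, ?_⟩, fun x hx => ?_⟩
    · rw [Nat.card_eq_fintype_card]; rfl
    · rw [(hval s hs).2 hsα]; decide
    · rw [MonoidHom.mem_ker]
      constructor
      · intro h
        rcases hO x hx with e | e
        · exact e.1
        · rw [(hval x hx).2 e.1] at h; exact absurd h (by decide)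
      · exact (hval x hx).1

end CfsgLib.FixTwo
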